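import Cfsg.Agent.H831.JM.Tree
import Cfsg.Agent.H858.Loc5

/-!
# Elements of `J4` around an element of order 5 (helper831)

The environment `LY` (elements of `J4`, newest first).
-/

set_option autoImplicit false

namespace Cfsg.Agent.H831.JM.EnvData

open Cfsg.Agent.H831.JM.Tree

/-- the program -/
def slpY : List (List ℕ) := [
  [26, 27, 26, 28, 26, 27, 26, 28, 26, 28, 26, 28, 26, 27, 26, 27, 26, 28, 26, 28, 26, 28, 26, 27, 26, 27,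
   26, 28, 26, 28, 26, 28, 26, 27, 26, 28, 26, 27, 26, 27],  -- N
  [29, 27, 29, 27, 28, 27, 29, 27, 28, 27, 28, 27, 28, 27, 29, 27, 29, 27, 28, 27, 28, 27, 28, 27, 29, 27,
   29, 27, 28, 27, 28, 27, 28, 27, 29, 27, 28, 27, 29, 27],  -- Ni
  [30, 28, 30, 28, 29, 28, 29, 28, 30, 28, 29, 28, 29, 28, 30, 28, 30, 28, 29, 28, 29, 28, 30, 28, 29, 28,
   30, 28, 30, 28, 29, 28, 29, 28, 29, 28, 30],  -- M
  [30, 29, 31, 29, 31, 29, 31, 29, 30, 29, 30, 29, 31, 29, 30, 29, 31, 29, 31, 29, 30, 29, 30, 29, 31, 29,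
   31, 29, 30, 29, 31, 29, 31, 29, 30, 29, 30],  -- Mi
  [3, 17, 18, 19, 21, 23, 33, 1],  -- G2
  [1, 34, 18, 19, 20, 22, 24, 3],  -- H
  [32, 33, 32, 33, 32, 33, 32, 34, 32, 34, 32, 34],  -- U11
  [33, 34, 33, 35, 33, 34, 33, 35, 33, 35, 33, 35, 33, 35, 33, 35, 33, 35, 33, 35, 33, 34, 33, 35, 33, 35,
   33, 34, 33, 34, 33, 34, 33, 35, 33, 35, 33, 34, 33, 35, 33, 35, 33, 35, 33, 35, 33, 35, 33, 34, 33, 35,
   33, 34, 33],  -- A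
  [2, 1, 3],  -- UB
  [37, 35, 36, 35, 37, 35, 37, 35, 37, 35, 37, 35, 36, 35, 36, 35, 36, 35, 36, 35, 36, 35, 36, 35, 36, 35,
   37, 35, 36, 35, 37, 35, 36, 35, 37, 35, 36, 35, 37],  -- P1
  [36, 38, 36, 37, 36, 37, 36, 38, 36, 38, 36, 38, 36, 37, 36, 37, 36, 37, 36, 38, 36, 37, 36, 38, 36, 38,
   36, 38, 36, 38, 36, 37, 36, 37, 36, 38],  -- M2
  [24, 25, 27, 29, 30, 33, 34, 1, 40, 0, 25],  -- UA
  [14, 14],  -- R2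
  [13, 13, 13, 22, 22, 13, 22],  -- Z0
  [23, 14, 14],  -- RA
  [15, 24, 15, 24, 15, 24, 15, 24],  -- RB
  [25, 25, 16, 16, 16],  -- YA
  [17, 26, 26, 17, 26, 17, 17],  -- Y1
  [27, 27, 18, 18, 27, 18, 27, 27],  -- Y2
  [28, 28, 28, 28, 19, 28, 28, 28, 28, 19],  -- Y3
  [20, 29, 29, 29, 29, 20, 29, 29, 29, 29],  -- Y4
  [21, 30, 21, 30, 21, 21, 30, 30, 30, 21],  -- Y5
  [25, 25, 9, 25, 25, 25],  -- T0
  [26, 26, 26, 10, 5, 26, 26],  -- T1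
  [27, 27, 27, 11, 5, 27, 27],  -- T2
  [28, 28, 28, 12, 5, 28, 28],  -- T3
  [29, 29, 29, 13, 5, 29, 29],  -- T4
  [30, 14, 5, 30, 30, 30, 30],  -- T5
  [37, 28, 28, 28, 28, 28, 37, 37, 37],  -- YS
  [32, 32, 32, 31, 0, 32, 32]]  -- VS

set_option maxRecDepth 100000 in
/-- a spanning tree of the Cayley graph of `J` -/
def tJ : BT :=
  .b (.b (.b (.b (.b (.b (.r (.b (.r .o) (.b (.l (.l (.b .o .o))) (.b (.r (.r .o)) .o)))) (.b (.b (.b (.b (.r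
  .o) (.l (.l .o))) (.b (.l (.l .o)) (.r .o))) .o) (.b (.b (.l (.b .o (.l .o))) (.r (.r (.l .o)))) (.b (.r (.r
  .o)) (.l .o))))) (.b (.b (.b (.b (.b (.b (.r .o) (.r .o)) .o) (.b (.l .o) (.r .o))) (.b (.b (.l .o) (.l .o))
  (.b (.r (.l .o)) .o))) .o) (.b (.b (.l (.b (.l (.r .o)) (.l .o))) (.b (.l (.b (.r .o) .o)) (.b .o (.l (.b .o
  .o))))) (.b (.b (.r (.l .o)) (.b (.l (.r .o)) (.l (.l .o)))) (.l .o))))) (.b (.b (.b (.b (.b (.b (.r .o) (.r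
  .o)) .o) (.b (.b .o (.r (.l (.l .o)))) (.r .o))) (.b (.b (.l (.l (.l .o))) (.l .o)) (.b (.r (.l (.l .o))) (.l
  .o)))) (.r (.b (.b (.r .o) (.b .o .o)) (.b (.l (.l .o)) (.l (.r (.r .o))))))) (.b (.b (.b (.b (.b (.r .o) (.l
  (.l .o))) (.l .o)) (.r (.b (.b (.r .o) .o) (.r .o)))) (.b (.l (.b (.r .o) .o)) (.b (.l (.b .o .o)) (.b (.b .o
  .o) (.b (.r .o) .o))))) (.b (.b (.r (.l .o)) (.b (.l (.r .o)) (.l (.l (.r .o))))) (.b .o (.b (.r (.l .o)) (.r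
  .o))))))) (.b (.b (.b (.b (.b (.b (.r (.r .o)) (.b .o .o)) (.r (.b .o .o))) (.b (.b (.b (.l .o) (.l (.r .o)))
  (.r (.l (.l .o)))) (.r (.l (.b .o (.l .o)))))) (.b (.b (.b (.l (.l .o)) (.l (.b .o .o))) (.b (.l .o) (.r (.l
  (.l .o))))) (.b (.b .o (.l (.l (.r .o)))) (.b (.l (.b .o .o)) (.b .o (.r .o)))))) (.b (.b (.b (.b (.b .o .o)
  (.r (.r (.r .o)))) (.b (.r (.b .o .o)) (.r (.b .o .o)))) (.b (.b (.l (.r .o)) (.b (.r (.r .o)) .o)) (.b (.b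
  (.l (.l .o)) (.b .o .o)) (.l .o)))) (.b (.b (.r (.r (.r .o))) (.b (.l .o) (.r (.b .o .o)))) (.b (.l (.l .o))
  (.l (.r (.r .o))))))) (.b (.b (.b (.b (.b (.b (.r .o) (.l (.l .o))) (.l (.l .o))) (.l .o)) (.b .o (.b (.b (.r
  .o) .o) (.r (.b .o .o))))) (.b (.l (.b (.r .o) .o)) (.b (.l (.b .o (.l .o))) (.b (.b (.l .o) (.l .o)) (.b (.r
  .o) (.r .o)))))) (.b (.b (.b (.b (.b (.r .o) (.l .o)) (.l (.l .o))) (.l .o)) (.b (.l (.b (.b .o .o) (.r (.l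
  .o)))) (.l (.l (.r (.l .o)))))) (.b .o (.b (.r (.l .o)) (.r (.l .o)))))))) (.b (.b (.b (.b (.b (.b (.r (.r (.r
  (.l .o)))) (.b (.b (.l .o) .o) .o)) (.b (.b (.l (.b .o (.l .o))) .o) (.b .o .o))) (.b (.b (.b (.l (.l .o)) (.b
  (.r .o) (.l .o))) (.r (.l (.l .o)))) (.b (.r (.l (.l (.l .o)))) (.b (.b .o (.b .o .o)) (.b .o .o))))) (.b (.b
  (.b (.l (.b .o (.r .o))) (.l (.b .o (.l .o)))) (.b (.l (.r (.r .o))) (.r (.b (.l .o) .o)))) (.b (.b (.b (.b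
  (.l .o) (.l .o)) (.l .o)) (.b (.l (.r .o)) (.r (.l (.r .o))))) (.b (.l (.b (.r .o) (.l .o))) (.b .o (.b .o
  .o)))))) (.b (.b (.b (.b (.b (.l .o) .o) (.r (.r (.b .o (.r .o))))) (.b (.r (.b .o .o)) (.b (.r .o) (.b .o
  .o)))) (.b (.b (.b (.r .o) (.r (.r .o))) (.b (.b (.b .o (.r .o)) (.b .o .o)) .o)) (.b (.b (.l (.l .o)) (.b .o
  (.r (.l .o)))) (.l (.l .o))))) (.b (.b (.b (.b .o (.l (.r .o))) (.b (.r (.r .o)) (.r .o))) (.b (.l .o) (.r (.b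
  (.b .o (.b .o .o)) (.r .o))))) (.b (.l (.l .o)) (.b (.r (.r .o)) (.b (.l (.r (.l .o))) .o)))))) (.b (.b (.b
  (.b (.b (.b (.r .o) (.l (.b .o .o))) (.l (.l (.l .o)))) (.l (.r .o))) (.b (.r (.b (.l .o) (.r (.r .o)))) (.b
  (.b (.r (.l .o)) (.b .o .o)) (.r (.b .o (.r .o)))))) (.b (.l (.b (.b (.r (.l .o)) .o) (.r (.b (.r .o) .o))))
  (.b (.l (.b (.r .o) (.l (.r .o)))) (.b (.b (.l .o) (.b .o (.r .o))) (.b (.r .o) (.b (.b (.r .o) .o) .o))))))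
  (.b (.b (.b (.b (.b (.b .o .o) (.l .o)) (.l (.l (.r .o)))) (.l (.r (.b (.b (.r .o) (.l .o)) .o)))) (.b (.l (.b
  (.b .o .o) (.r (.l .o)))) (.b (.l (.r (.b .o (.r .o)))) (.l .o)))) (.b (.r (.b .o (.b (.l (.r .o)) (.l (.r
  .o))))) (.b (.b (.b .o (.l (.r .o))) (.l .o)) (.r (.l (.l (.b .o .o)))))))))) (.b (.b (.b (.b (.b (.b (.r (.b
  .o (.r (.b .o .o)))) (.b (.b (.l (.l .o)) .o) (.r (.b .o .o)))) (.b (.b (.b (.b (.r .o) (.b (.l .o) .o)) (.l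
  (.l .o))) .o) (.b (.r (.l (.l (.r .o)))) (.l (.r (.l .o)))))) (.b (.b (.b (.l (.l (.l .o))) (.b (.r (.l .o))
  (.l .o))) (.r (.b (.l .o) (.b .o .o)))) (.b (.b (.b (.l .o) (.r (.r .o))) (.l (.l (.b .o .o)))) (.b (.b .o (.b
  .o .o)) (.b .o .o))))) (.b (.b (.b (.l (.b .o (.r (.b .o .o)))) (.l (.b .o (.l .o)))) (.b (.b (.r (.b (.r (.r
  .o)) (.r .o))) (.b (.b .o (.l .o)) (.b (.l (.l .o)) .o))) (.r (.b (.l .o) .o)))) (.b (.b (.b (.b (.l .o) (.l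
  .o)) (.l .o)) (.b (.l (.r .o)) (.b .o (.l (.r .o))))) (.b (.l (.b (.r .o) (.l .o))) (.b .o (.b (.r .o)
  .o)))))) (.b (.b (.b (.b (.b (.l (.r .o)) (.b (.r .o) (.b .o .o))) (.r (.b (.r (.l .o)) (.b .o (.r .o))))) (.b
  (.r (.b (.l (.r .o)) (.r (.b .o .o)))) (.b (.b (.l (.r (.l .o))) .o) (.b .o (.l .o))))) (.b (.b (.b (.b (.r
  .o) .o) (.r (.b .o .o))) (.b (.b (.b (.r .o) (.r .o)) (.b (.b .o .o) .o)) .o)) (.b (.b (.l (.b .o .o)) (.b (.l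
  .o) (.r (.l .o)))) (.b (.l (.l .o)) (.r (.l (.l .o))))))) (.b (.b (.b (.b (.l (.r (.l .o))) (.l (.r .o))) (.b
  (.r (.r .o)) (.r (.r (.r .o))))) (.b (.l (.r .o)) (.r (.b (.b (.l .o) (.b .o .o)) (.r (.l (.r .o))))))) (.b
  (.b (.l (.b (.b (.l .o) (.l .o)) (.l .o))) (.b (.l (.b .o .o)) (.r (.l .o)))) (.b (.r (.b .o (.r (.l .o))))
  (.b (.b (.r (.l .o)) .o) (.r (.l (.l (.l .o)))))))))) (.b (.b (.b (.b (.b (.b (.r .o) (.l (.b .o .o))) (.l (.l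
  (.b .o .o)))) (.l (.b (.b (.l .o) (.b .o (.l .o))) (.r (.r .o))))) (.b (.r (.b (.b (.r .o) (.b (.l .o) .o))
  (.r (.b .o .o)))) (.b (.b (.b (.l .o) (.l .o)) (.b .o (.l .o))) (.r (.b .o (.b (.r .o) .o)))))) (.b (.l (.b
  (.b (.r (.b .o .o)) (.r .o)) (.b .o (.b (.b (.l .o) .o) .o)))) (.b (.l (.b (.r .o) (.b (.r .o) (.r (.r .o)))))
  (.b (.b (.l .o) (.b (.l (.l .o)) (.r .o))) (.b (.r (.l .o)) (.b (.b (.r .o) .o) (.r .o))))))) (.b (.b (.b (.b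
  (.b (.b .o (.l (.b .o .o))) (.l .o)) (.l (.l (.b .o (.r .o))))) (.b (.r (.b (.b (.r .o) (.l (.l .o))) .o)) (.l
  (.b (.r .o) (.r .o))))) (.b (.l (.b (.b .o (.r .o)) (.r (.l .o)))) (.b (.l (.r (.b (.r .o) (.r .o)))) (.l (.r
  (.r (.r .o))))))) (.b (.b (.b (.b (.b (.b .o (.l (.l .o))) .o) .o) (.b (.r (.l (.b (.r .o) .o))) (.l (.r
  .o)))) (.b .o (.b (.l (.r (.r (.r .o)))) (.l (.r .o))))) (.b (.b (.b (.r .o) (.b (.r .o) (.l .o))) (.b .o (.b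
  (.l .o) .o))) (.b (.l (.b .o (.l .o))) (.l (.l (.b .o .o)))))))))

/-- a row vector fixed by `f`, with a regular orbit under `J` -/
def wJ : ℕ := 2596228012522570763124141650182721

/-- the row vector of the point fixed by `uB` and `f` -/
def pB : ℕ := 4520321800026123793245004258066431

end Cfsg.Agent.H831.JM.EnvData
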