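import Cfsg.Agent.H831.JM.Point
import Cfsg.Agent.H860.JM.Defs

/-!
# A simple group in the stabilizer of the point fixed by `uB` and `f` (helper831)
-/

set_option autoImplicit false

open Cfsg

namespace Cfsg.Agent.H831.JM.NoIn

open Cfsg.Agent.Lib Cfsg.Agent.Lib.F2Mat Cfsg.Agent.Lib.F2MatGroup
open Cfsg.Agent.J4.Rep112 Cfsg.Agent.J4.Pres Cfsg.Agent.J4.M24Hom Cfsg.Agent.J4.Nodes
open Cfsg.Agent.J4.Invol (EJ)
open Cfsg.Agent.H858 Cfsg.Agent.H858.VK Cfsg.Agent.H858.Data Cfsg.Agent.H858.Elem Cfsg.Agent.H858.Fix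
open Cfsg.Agent.H831.JM.Env Cfsg.Agent.H831.JM.JList Cfsg.Agent.H831.JM.Pair Cfsg.Agent.H831.JM.Point

local notation "𝒢" => Cfsg.Spor.J4

/-- the word of the element of order 5 of `M24` -/
def wA : List ℕ := [56, 57, 56, 58, 56, 57, 56, 58, 56, 58, 56, 58, 56, 58, 56, 58, 56, 58, 56, 58, 56, 57, 56, 58, 56, 58,
    56, 57, 56, 57, 56, 57, 56, 58, 56, 58, 56, 57, 56, 58, 56, 58, 56, 58, 56, 58, 56, 58, 56, 57, 56, 58, 56, 57,
    56]

theorem exists_a : ∃ a : M24, phi a = e 22 := by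
  have h := eqY (p := ([22], wA)) (by decide +kernel)
  simp only [evG_cons, evG_nil, mul_one] at h
  have key : ∀ w : List ℕ, (∀ i ∈ w, i = 56 ∨ i = 57 ∨ i = 58) → evG LY w ∈ phi.range := by
    intro w
    induction w with
    | nil => intro _; exact Subgroup.one_mem _
    | cons i w ih =>
      intro hw
      rw [evG_cons]
      refine Subgroup.mul_mem _ ?_ (ih fun j hj => hw j (List.mem_cons_of_mem _ hj))
      rcases hw i List.mem_cons_self with rfl | rfl | rfl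
      · exact ⟨XM, phi_X.trans e_x.symm⟩
      · exact ⟨YM, phi_Y.trans e_y.symm⟩
      · refine ⟨YM⁻¹, ?_⟩
        rw [map_inv, phi_Y]
        exact e_yi.symm
  have h2 := key wA (by decide +kernel)
  rw [← h] at h2
  exact h2

/-- the element of order 5 of `M24` -/
noncomputable def aM : M24 := exists_a.choose
theorem phi_aM : phi aM = e 22 := exists_a.choose_spec

/-- the Frobenius group of order 55 of `M24` -/
noncomputable def P : Subgroup M24 := Subgroup.closure {aM, H859.M24Eleven.f}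

theorem aM_mem : aM ∈ P := Subgroup.subset_closure (Or.inl rfl)
theorem f_mem : H859.M24Eleven.f ∈ P := Subgroup.subset_closure (Or.inr rfl)

theorem dvd_P : 55 ∣ Nat.card P := by
  have h1 : 11 ∣ Nat.card P := by
    rw [← H859.M24Eleven.orderOf_f]
    have := orderOf_dvd_natCard (⟨H859.M24Eleven.f, f_mem⟩ : P)
    rwa [Subgroup.orderOf_mk] at this
  have h2 : orderOf aM = 5 := by
    have h3 : orderOf (phi aM) = orderOf f := by
      rw [phi_aM, ← f_eq', H2_eq]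
      have e1 : G2⁻¹ * e 22 * G2 = (MulAut.conj G2⁻¹) (e 22) := by
        rw [MulAut.conj_apply, inv_inv]
      rw [e1]
      exact (MulEquiv.orderOf_eq _ _).symm
    have h4 : Function.Injective phi := phi_injective
    rw [← orderOf_injective phi h4, h3, orderOf_f]
  have h5 : 5 ∣ Nat.card P := by
    rw [← h2]
    have := orderOf_dvd_natCard (⟨aM, aM_mem⟩ : P)
    rwa [Subgroup.orderOf_mk] at this
  exact Nat.Coprime.mul_dvd_of_dvd_of_dvd (by norm_num : Nat.Coprime 5 11) h5 h1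

theorem ncard_le : (fixSet FixJ4.B (P.map phi)).ncard ≤ 1 := by
  refine (FixJ4.card_fix_le P).trans ?_
  have h0 : ∀ i : Fin 20, i ≠ 0 → (fixSet (FixJ4.S i) P).ncard = 0 := by
    intro i hi
    rw [Set.ncard_eq_zero (Set.toFinite _), Set.eq_empty_iff_forall_notMem]
    intro c hc
    obtain ⟨m, rfl⟩ := QuotientGroup.mk_surjective c
    rw [mk_mem_fixSet] at hc
    have h1 : P.map (MulAut.conj m⁻¹).toMonoidHom ≤ FixJ4.S i := by
      rintro _ ⟨p, hp, rfl⟩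
      have := hc p hp
      show m⁻¹ * p * (m⁻¹)⁻¹ ∈ FixJ4.S i
      rwa [inv_inv]
    have h2 := Subgroup.card_dvd_of_le h1
    rw [Subgroup.card_map_of_injective (MulAut.conj m⁻¹).injective, FixJ4.card_S] at h2
    have h3 : ∀ i : Fin 20, i ≠ 0 → ¬ 55 ∣ FixJ4.so i := by decide +kernel
    exact h3 i hi (dvd_P.trans h2)
  rw [Finset.sum_eq_single (0 : Fin 20) (fun i _ hi => h0 i hi) (fun h => absurd (Finset.mem_univ _) h)]
  have h1 : FixJ4.S 0 = ⊤ := by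
    apply Subgroup.eq_top_of_card_eq
    rw [FixJ4.card_S, FixJ4.card_M24]
    rfl
  rw [Set.ncard_le_one (Set.toFinite _)]
  intro a _ b _
  obtain ⟨x, rfl⟩ := QuotientGroup.mk_surjective a
  obtain ⟨y, rfl⟩ := QuotientGroup.mk_surjective b
  rw [QuotientGroup.eq, h1]
  exact Subgroup.mem_top _

/-- the conjugate of `phi p` -/
theorem conj_P {S : Subgroup 𝒢} (hu : uB ∈ S) (hf : f ∈ S) {p : M24} (hp : p ∈ P) : G2⁻¹ * phi p * G2 ∈ S := by
  have h1 : P ≤ (S.map (MulAut.conj G2).toMonoidHom).comap phi := by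
    unfold P
    rw [Subgroup.closure_le]
    rintro z (rfl | rfl)
    · refine ⟨f, hf, ?_⟩
      show G2 * f * G2⁻¹ = phi aM
      rw [← f_eq', phi_aM, H2_eq]
      group
    · refine ⟨uB, hu, ?_⟩
      show G2 * uB * G2⁻¹ = phi H859.M24Eleven.f
      rw [uB_eq, ← e23_eq, H2_eq]
      group
  obtain ⟨k, hk, h2⟩ := h1 hp
  have h3 : G2 * k * G2⁻¹ = phi p := h2
  rw [← h3]
  have e1 : G2⁻¹ * (G2 * k * G2⁻¹) * G2 = k := by group
  rw [e1]
  exact hk

/-- the normalizer of a subgroup of `MB` containing `uB` and `f` is in `MB` -/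
theorem norm_le {S : Subgroup 𝒢} (hu : uB ∈ S) (hf : f ∈ S) (hS : S ≤ MB) :
    Subgroup.normalizer (S : Set 𝒢) ≤ MB := by
  intro n hn
  rw [mem_MB]
  have h1 : (QuotientGroup.mk (1 : 𝒢) : 𝒢 ⧸ FixJ4.B) ∈ fixSet FixJ4.B (P.map phi) := by
    rw [mk_mem_fixSet]
    rintro _ ⟨p, hp, rfl⟩
    rw [inv_one, one_mul, mul_one]
    exact mem_B.2 ⟨1, Subgroup.one_mem _, p, (one_mul _).symm⟩
  have h2 : (QuotientGroup.mk (G2 * n * G2⁻¹) : 𝒢 ⧸ FixJ4.B) ∈ fixSet FixJ4.B (P.map phi) := by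
    rw [mk_mem_fixSet]
    rintro _ ⟨p, hp, rfl⟩
    have h3 : n⁻¹ * (G2⁻¹ * phi p * G2) * n ∈ S := by
      have h4 := (Subgroup.mem_normalizer_iff.1 (Subgroup.inv_mem _ hn) _).1 (conj_P hu hf hp)
      rwa [inv_inv] at h4
    have h4 := mem_MB.1 (hS h3)
    have e1 : (G2 * n * G2⁻¹)⁻¹ * phi p * (G2 * n * G2⁻¹) = G2 * (n⁻¹ * (G2⁻¹ * phi p * G2) * n) * G2⁻¹ := by
      group
    rw [e1]
    exact h4
  have h3 := (Set.ncard_le_one (Set.toFinite _)).1 ncard_le _ h1 _ h2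
  rw [QuotientGroup.eq, inv_one, one_mul] at h3
  exact h3

theorem MB_ne : MB ≠ ⊤ := by
  intro h
  have h1 : FixJ4.B = ⊤ := by
    rw [eq_top_iff]
    intro x _
    have h2 : G2⁻¹ * x * G2 ∈ MB := by rw [h]; exact Subgroup.mem_top _
    have h3 := mem_MB.1 h2
    have e1 : G2 * (G2⁻¹ * x * G2) * G2⁻¹ = x := by group
    rwa [e1] at h3
  have h2 := FixJ4.index_B
  rw [h1, Subgroup.index_top] at h2
  norm_num at h2

/-- the elementary abelian group of the point -/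
noncomputable def VB : Subgroup 𝒢 := EJ.map (MulAut.conj G2⁻¹).toMonoidHom

theorem mem_VB {x : 𝒢} : x ∈ VB ↔ G2 * x * G2⁻¹ ∈ EJ := by
  unfold VB
  constructor
  · rintro ⟨v, hv, rfl⟩
    show G2 * (G2⁻¹ * v * (G2⁻¹)⁻¹) * G2⁻¹ ∈ EJ
    have e1 : G2 * (G2⁻¹ * v * (G2⁻¹)⁻¹) * G2⁻¹ = v := by group
    rwa [e1]
  · intro h
    refine ⟨_, h, ?_⟩
    show G2⁻¹ * (G2 * x * G2⁻¹) * (G2⁻¹)⁻¹ = x
    group

theorem VB_le : VB ≤ MB := by
  intro x hx
  rw [mem_MB]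
  exact mem_B.2 ⟨_, mem_VB.1 hx, 1, by rw [map_one, mul_one]⟩

theorem VB_norm {m x : 𝒢} (hm : m ∈ MB) (hx : x ∈ VB) : m * x * m⁻¹ ∈ VB := by
  rw [mem_VB] at hx ⊢
  have h1 : FixJ4.B ≤ Subgroup.normalizer (EJ : Set 𝒢) := by
    intro z hz
    obtain ⟨a, ha, k, rfl⟩ := mem_B.1 hz
    exact Subgroup.mul_mem _ (Subgroup.le_normalizer ha) (phi_norm ⟨k, rfl⟩)
  have h2 := (Subgroup.mem_normalizer_iff.1 (h1 (mem_MB.1 hm)) _).1 hx
  have e1 : G2 * m * G2⁻¹ * (G2 * x * G2⁻¹) * (G2 * m * G2⁻¹)⁻¹ = G2 * (m * x * m⁻¹) * G2⁻¹ := by group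
  rwa [e1] at h2

theorem VB_comm {x y : 𝒢} (hx : x ∈ VB) (hy : y ∈ VB) : x * y = y * x := by
  have h := Cfsg.Agent.J4.Invol.EJ_comm rho_injective _ _ (mem_VB.1 hx) (mem_VB.1 hy)
  have e1 : x * y = G2⁻¹ * (G2 * x * G2⁻¹ * (G2 * y * G2⁻¹)) * G2 := by group
  rw [e1, h]
  group

theorem VB_ne : ∃ x ∈ VB, x ≠ 1 := by
  refine ⟨G2⁻¹ * V 1 * G2, mem_VB.2 ?_, ?_⟩
  · have e1 : G2 * (G2⁻¹ * V 1 * G2) * G2⁻¹ = V 1 := by group
    rw [e1]
    exact V_mem 1
  · intro h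
    have h1 : V 1 = 1 := by
      have e1 : V 1 = G2 * (G2⁻¹ * V 1 * G2) * G2⁻¹ := by group
      rw [e1, h]; group
    rw [← V_zero] at h1
    exact absurd (V_inj (by norm_num) (by norm_num) h1) (by norm_num)

/-- **no maximal subgroup with a simple socle in `MB` containing `uB` and `f`** -/
theorem no_in_MB {M S : Subgroup 𝒢} (h : Cfsg.Agent.H860.JM.NL M S) (hu : uB ∈ S) (hf : f ∈ S) (hS : S ≤ MB) :
    False := by
  have h1 : M = MB := by
    rcases h.coatom.le_iff.1 (h.norm.trans (norm_le hu hf hS)) with h2 | h2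
    · exact absurd h2 MB_ne
    · exact h2.symm
  have hsimple := h.simple
  let W : Subgroup S := VB.subgroupOf S
  have hW : W.Normal := ⟨fun w hw s => Subgroup.mem_subgroupOf.2 (by
    have := VB_norm (hS s.2) (Subgroup.mem_subgroupOf.1 hw)
    exact this)⟩
  rcases hW.eq_bot_or_eq_top with h2 | h2
  · obtain ⟨x, hx, hx1⟩ := VB_ne
    apply hx1
    have h3 : x ∈ Subgroup.centralizer (S : Set 𝒢) := by
      rw [Subgroup.mem_centralizer_iff]
      intro s hs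
      have hsS : s ∈ S := hs
      have h4 : s * x * s⁻¹ * x⁻¹ ∈ VB := VB.mul_mem (VB_norm (hS hsS) hx) (VB.inv_mem hx)
      have h5 : s * x * s⁻¹ * x⁻¹ ∈ S := by
        have hxM : x ∈ M := h1 ▸ VB_le hx
        have h6 := (Subgroup.mem_normalizer_iff.1 (h.norm hxM) _).1 (S.inv_mem hsS)
        have e1 : s * x * s⁻¹ * x⁻¹ = s * (x * s⁻¹ * x⁻¹) := by group
        rw [e1]
        exact S.mul_mem hsS h6
      have h6 : (⟨_, h5⟩ : S) ∈ W := Subgroup.mem_subgroupOf.2 h4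
      rw [h2, Subgroup.mem_bot] at h6
      have h7 : s * x * s⁻¹ * x⁻¹ = 1 := congrArg Subtype.val h6
      have e2 : s * x = s * x * s⁻¹ * x⁻¹ * (x * s) := by group
      rw [e2, h7, one_mul]
    rw [h.cent, Subgroup.mem_bot] at h3
    exact h3
  · apply h.nab
    have h3 : ∀ s : S, (s : 𝒢) ∈ VB := fun s =>
      Subgroup.mem_subgroupOf.1 (show s ∈ W by rw [h2]; exact Subgroup.mem_top _)
    exact ⟨⟨fun a b => Subtype.ext (VB_comm (h3 a) (h3 b))⟩⟩

end Cfsg.Agent.H831.JM.NoIn
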