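import Cfsg.Agent.H831.JM.JList
import Cfsg.Agent.H831.JM.PairAbs
import Cfsg.Agent.H859.ClassEleven

/-!
# The subgroups `11:5` of `J4` (helper831)
-/

set_option autoImplicit false

open Cfsg

namespace Cfsg.Agent.H831.JM.Pair

open Cfsg.Agent.Lib Cfsg.Agent.Lib.F2Mat Cfsg.Agent.Lib.F2MatGroup
open Cfsg.Agent.J4.Rep112 Cfsg.Agent.J4.Pres Cfsg.Agent.J4.M24Hom Cfsg.Agent.J4.Nodes
open Cfsg.Agent.H858 Cfsg.Agent.H858.VK Cfsg.Agent.H858.Data Cfsg.Agent.H858.Elem
open Cfsg.Agent.H831.JM.Tree Cfsg.Agent.H831.JM.EnvData Cfsg.Agent.H831.JM.Env Cfsg.Agent.H831.JM.JList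

local notation "𝒢" => Cfsg.Spor.J4

instance : Finite 𝒢 := FixJ4.facts.1

theorem eqY {p : List ℕ × List ℕ} (h : p ∈ eqsY) : evG LY p.1 = evG LY p.2 := soundY.1 p h
theorem neY {p : List ℕ × List ℕ} (h : p ∈ neqsY) : evG LY p.1 ≠ evG LY p.2 := soundY.2 p h

/-- elements of order 11 of the two classes, normalized by `f` -/
noncomputable abbrev uA : 𝒢 := e 18
noncomputable abbrev uB : 𝒢 := e 21
/-- a conjugating element -/
noncomputable abbrev G2 : 𝒢 := e 25
noncomputable abbrev H2 : 𝒢 := e 24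

theorem G2_H2 : G2 * H2 = 1 := by
  have h := eqY (p := ([25, 24], [])) (by decide +kernel)
  simpa only [evG_cons, evG_nil, mul_one] using h

theorem H2_eq : H2 = G2⁻¹ := eq_inv_of_mul_eq_one_right G2_H2

theorem f_eq' : H2 * e 22 * G2 = f := by
  have h := eqY (p := ([24, 22, 25], [33])) (by decide +kernel)
  simp only [evG_cons, evG_nil, mul_one] at h
  rw [← e_f, mul_assoc]
  exact h

theorem uB_eq : uB = H2 * e 23 * G2 := by
  have h := eqY (p := ([21], [24, 23, 25])) (by decide +kernel)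
  simp only [evG_cons, evG_nil, mul_one] at h
  rw [mul_assoc]
  exact h

theorem e_x : e 56 = x := (shift 26).trans g26
theorem e_y : e 57 = y := (shift 27).trans g27
theorem e_yi : e 58 = y⁻¹ := (shift 28).trans g28

theorem e23_eq : e 23 = phi H859.M24Eleven.f := by
  have h := eqY (p := ([23], [56, 57, 56, 57, 56, 57, 56, 58, 56, 58, 56, 58])) (by decide +kernel)
  simp only [evG_cons, evG_nil, mul_one] at h
  have h2 : phi H859.M24Eleven.f = x * (y * (x * (y * (x * (y * (x * (y⁻¹ * (x * (y⁻¹ * (x * y⁻¹)))))))))) := by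
    simp [H859.M24Eleven.f, H859.M24Eleven.wf, wordG, letG0, letG1, letG2, phi_X, phi_Y]
  rw [h2, ← e_x, ← e_yi, ← e_y]
  exact h

theorem f_uB : f * uB = uB ^ 3 * f := by
  have h := eqY (p := ([33, 21], [21, 21, 21, 33])) (by decide +kernel)
  simp only [evG_cons, evG_nil, mul_one] at h
  rw [← e_f]
  simpa only [pow_succ, pow_zero, one_mul, mul_assoc] using h

theorem f_uA : f * uA = uA ^ 3 * f := by
  have h := eqY (p := ([33, 18], [18, 18, 18, 33])) (by decide +kernel)
  simp only [evG_cons, evG_nil, mul_one] at h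
  rw [← e_f]
  simpa only [pow_succ, pow_zero, one_mul, mul_assoc] using h

theorem uA_pow : uA ^ 11 = 1 := by
  have h := eqY (p := ([18, 18, 18, 18, 18, 18, 18, 18, 18, 18, 18], [])) (by decide +kernel)
  simp only [evG_cons, evG_nil, mul_one] at h
  simpa only [pow_succ, pow_zero, one_mul, mul_assoc] using h

theorem uA_ne : uA ≠ 1 := by
  have h := neY (p := ([18], [])) (by decide +kernel)
  simpa only [evG_cons, evG_nil, mul_one] using h

theorem uB_ne : uB ≠ 1 := by
  have h := neY (p := ([21], [])) (by decide +kernel)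
  simpa only [evG_cons, evG_nil, mul_one] using h

theorem rA_f : e 15 * f = f * e 15 := by
  have h := eqY (p := ([15, 33], [33, 15])) (by decide +kernel)
  simp only [evG_cons, evG_nil, mul_one] at h
  rw [← e_f]; exact h

theorem rB_f : e 14 * f = f * e 14 := by
  have h := eqY (p := ([14, 33], [33, 14])) (by decide +kernel)
  simp only [evG_cons, evG_nil, mul_one] at h
  rw [← e_f]; exact h

theorem rA_uA : e 15 * uA = uA ^ 10 * e 15 := by
  have h := eqY (p := ([15, 18], [18, 18, 18, 18, 18, 18, 18, 18, 18, 18, 15])) (by decide +kernel)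
  simp only [evG_cons, evG_nil, mul_one] at h
  simpa only [pow_succ, pow_zero, one_mul, mul_assoc] using h

theorem rB_uB : e 14 * uB = uB ^ 10 * e 14 := by
  have h := eqY (p := ([14, 21], [21, 21, 21, 21, 21, 21, 21, 21, 21, 21, 14])) (by decide +kernel)
  simp only [evG_cons, evG_nil, mul_one] at h
  simpa only [pow_succ, pow_zero, one_mul, mul_assoc] using h

/-- an element of order 3 of the centralizer of `uA` and `f` -/
noncomputable abbrev yA : 𝒢 := e 13

theorem yA_ne : yA ≠ 1 := by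
  have h := neY (p := ([13], [])) (by decide +kernel)
  simpa only [evG_cons, evG_nil, mul_one] using h

theorem yA_pow : yA ^ 3 = 1 := by
  have h := eqY (p := ([13, 13, 13], [])) (by decide +kernel)
  simp only [evG_cons, evG_nil, mul_one] at h
  simpa only [pow_succ, pow_zero, one_mul, mul_assoc] using h

theorem yA_uA : yA * uA = uA * yA := by
  have h := eqY (p := ([13, 18], [18, 13])) (by decide +kernel)
  simpa only [evG_cons, evG_nil, mul_one] using h

theorem orderOf_uA : orderOf uA = 11 := by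
  have : Fact (Nat.Prime 11) := ⟨by norm_num⟩
  exact orderOf_eq_prime uA_pow uA_ne

theorem conj_pow' {a b : 𝒢} (n : ℕ) : (b⁻¹ * a * b) ^ n = b⁻¹ * a ^ n * b := by
  have e : b⁻¹ * a * b = b⁻¹ * a * (b⁻¹)⁻¹ := by rw [inv_inv]
  rw [e, conj_pow, inv_inv]

theorem uB_pow : uB ^ 11 = 1 := by
  rw [uB_eq, H2_eq, conj_pow', e23_eq, ← map_pow, H859.M24Eleven.f_pow, map_one]
  group

theorem orderOf_uB : orderOf uB = 11 := by
  have : Fact (Nat.Prime 11) := ⟨by norm_num⟩
  exact orderOf_eq_prime uB_pow uB_ne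

theorem orderOf_f : orderOf f = 5 := by
  have : Fact (Nat.Prime 5) := ⟨by norm_num⟩
  exact orderOf_eq_prime f_pow Loc5.f_ne

/-! ### The classes of elements of order 11 -/

theorem conj_x_uB : IsConj H859.SylEleven.x uB := by
  obtain ⟨g, hg⟩ := H859.SylEleven.exists_x.choose_spec.2
  have h1 : H859.SylEleven.x = g * phi H859.M24Eleven.f * g⁻¹ := hg
  rw [isConj_iff]
  refine ⟨H2 * g⁻¹, ?_⟩
  rw [h1, uB_eq, e23_eq, H2_eq]
  group

theorem not_conj_x_uA : ¬ IsConj H859.SylEleven.x uA := by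
  intro h
  have h1 := H859.ClassEleven.card_centralizer_conj h
  rw [H859.SylEleven.card_centralizer_x_eq] at h1
  have h2 : yA ∈ Subgroup.centralizer {uA} := Subgroup.mem_centralizer_singleton_iff.2 yA_uA
  have h3 : orderOf yA = 3 := by
    have : Fact (Nat.Prime 3) := ⟨by norm_num⟩
    exact orderOf_eq_prime yA_pow yA_ne
  have h4 : orderOf yA ∣ Nat.card (Subgroup.centralizer {uA} : Subgroup 𝒢) := by
    have := orderOf_dvd_natCard (⟨yA, h2⟩ : Subgroup.centralizer {uA})
    rwa [Subgroup.orderOf_mk] at this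
  rw [h3, ← h1] at h4
  norm_num at h4

/-- **an element of order 11 is conjugate to `uA` or to `uB`** -/
theorem conj_or {w : 𝒢} (hw : orderOf w = 11) : IsConj w uA ∨ IsConj w uB := by
  have hA : IsConj uA H859.NU.c := (H859.ClassEleven.isConj_or orderOf_uA).resolve_left
    fun h => not_conj_x_uA h.symm
  rcases H859.ClassEleven.isConj_or hw with h | h
  · exact Or.inr (h.trans conj_x_uB)
  · exact Or.inl (h.trans hA.symm)

theorem not25 : ¬ 25 ∣ Nat.card 𝒢 := by
  rw [FixJ4.card_J4]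
  norm_num

theorem act_of {a b : 𝒢} {n : ℕ} (h : a * b = b ^ n * a) : a * b * a⁻¹ = b ^ n := by
  rw [h, mul_inv_cancel_right]

theorem inv_of {a b : 𝒢} (hb : b ^ 11 = 1) (h : a * b = b ^ 10 * a) : a * b * a⁻¹ = b⁻¹ := by
  rw [act_of h, eq_inv_iff_mul_eq_one, ← pow_succ]
  exact hb

/-- **the pairs `(f, u)` with `f u f⁻¹ = u³`** -/
theorem pair {f' u' : 𝒢} (hf : f' ^ 5 = 1) (hu : u' ^ 11 = 1) (hu1 : u' ≠ 1) (hfu : f' * u' * f'⁻¹ = u' ^ 3) :
    ∃ g : 𝒢, g * f' * g⁻¹ = f ∧ (g * u' * g⁻¹ = uA ∨ g * u' * g⁻¹ = uB) := by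
  have p11 : Fact (Nat.Prime 11) := ⟨by norm_num⟩
  have p5 : Fact (Nat.Prime 5) := ⟨by norm_num⟩
  have h11 : orderOf u' = 11 := orderOf_eq_prime hu hu1
  have hf1 : f' ≠ 1 := by
    rintro rfl
    rw [one_mul, inv_one, mul_one] at hfu
    have h2 : u' ^ 2 = 1 := by
      have h3 : u' ^ 2 * u' = 1 * u' := by rw [← pow_succ, one_mul, ← hfu]
      exact mul_right_cancel h3
    have h3 := orderOf_dvd_of_pow_eq_one h2
    rw [h11] at h3
    norm_num at h3
  have h5 : orderOf f' = 5 := orderOf_eq_prime hf hf1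
  rcases conj_or h11 with h | h
  · obtain ⟨g, h1, h2⟩ := PairAbs.pair_conj not25 orderOf_uA orderOf_f (act_of f_uA) rA_f
      (inv_of uA_pow rA_uA) h5 hfu h
    exact ⟨g, h1, Or.inl h2⟩
  · obtain ⟨g, h1, h2⟩ := PairAbs.pair_conj not25 orderOf_uB orderOf_f (act_of f_uB) rB_f
      (inv_of uB_pow rB_uB) h5 hfu h
    exact ⟨g, h1, Or.inr h2⟩

end Cfsg.Agent.H831.JM.Pair
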