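import Cfsg.Agent.H831.JM.Cent

/-!
# The involutions inverting `f` (helper831): the check
-/

set_option autoImplicit false
set_option Elab.async false

open Cfsg

namespace Cfsg.Agent.H831.JM.TCheck

open Cfsg.Agent.H831.JM.Split Cfsg.Agent.H831.JM.FmJ

/-- further program: `f⁻ᵃ uA fᵃ r²`, `f⁻ᵃ uB fᵃ r²`, `1` -/
def ws1 : List (List ℕ) := [
  [18, 17],
  [34, 34, 34, 34, 19, 34, 18],
  [35, 35, 35, 20, 35, 35, 19],
  [36, 36, 21, 36, 36, 36, 20],
  [37, 22, 37, 37, 37, 37, 21],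
  [26, 22],
  [39, 39, 39, 39, 27, 39, 23],
  [40, 40, 40, 28, 40, 40, 24],
  [41, 41, 29, 41, 41, 41, 25],
  [42, 30, 42, 42, 42, 42, 26],
  []]

/-- the formula -/
def fm1 : Fm := .or (.ne [0, 0] []) (
  .and (
    .bind [11, 0] (.ne [0, 0, 0] [])) (.and (
    .bind [10, 0] (.ne [0, 0, 0] [])) (.and (
    .or (.eq [0] [1]) (.bind [9, 0] (.ne [0, 0, 0] []))) (.and (
    .bind [8, 0] (.ne [0, 0, 0] [])) (.and (
    .bind [7, 0] (.ne [0, 0, 0] [])) (.and (
    .bind [6, 0] (.ne [0, 0, 0] [])) (.and (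
    .or (.eq [0] [20]) (.bind [5, 0] (.ne [0, 0, 0] []))) (.and (
    .bind [4, 0] (.ne [0, 0, 0] [])) (.and (
    .or (.eq [0] [24]) (.or (.eq [0] [23]) (.or (.eq [0] [22]) (.or (.eq [0] [21]) (.bind [3, 0] (.ne [0, 0, 0] [])))))) (
    .bind [2, 0] (.ne [0, 0, 0] [])))))))))))

theorem check1_t : chkTop ws1 fm1 = true := by decide +kernel
theorem check1_a : chkSub ws1 fm1 [[false, false, false]] = true := by decide +kernel
theorem check1_b : chkSub ws1 fm1 [[false, false, true]] = true := by decide +kernel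
theorem check1_c : chkSub ws1 fm1 [[false, true, false]] = true := by decide +kernel
theorem check1_d : chkSub ws1 fm1 [[false, true, true]] = true := by decide +kernel
theorem check1_f : chkSub ws1 fm1 [[true, false, false]] = true := by decide +kernel
theorem check1_g : chkSub ws1 fm1 [[true, false, true]] = true := by decide +kernel
theorem check1_h : chkSub ws1 fm1 [[true, true, false], [true, true, true]] = true := by decide +kernel

theorem check1 : ∀ x ∈ Cfsg.Agent.H858.Loc5.J, Mean fm1 (x :: EY ws1) :=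
  split_J check1_t check1_a check1_b check1_c check1_d check1_f check1_g check1_h

end Cfsg.Agent.H831.JM.TCheck

/-!
# The involutions inverting `f` with `(u t)³ = 1` (helper831)
-/


open Cfsg

namespace Cfsg.Agent.H831.JM.TList

open Cfsg.Agent.Lib Cfsg.Agent.Lib.F2Mat Cfsg.Agent.Lib.F2MatGroup
open Cfsg.Agent.J4.Rep112
open Cfsg.Agent.H858 Cfsg.Agent.H858.VK Cfsg.Agent.H858.Data Cfsg.Agent.H858.Elem
open Cfsg.Agent.H831.JM.EnvData Cfsg.Agent.H831.JM.Env Cfsg.Agent.H831.JM.JList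
open Cfsg.Agent.H831.JM.Pair Cfsg.Agent.H831.JM.Point Cfsg.Agent.H831.JM.FmJ Cfsg.Agent.H831.JM.Cent
open Cfsg.Agent.H831.JM.TCheck

local notation "𝒢" => Cfsg.Spor.J4

theorem f5' : f * (f * (f * (f * f))) = 1 := by
  have h := f_pow
  simpa only [pow_succ, pow_zero, one_mul, mul_assoc] using h

theorem inv0 : (f ^ 0)⁻¹ = (1 : 𝒢) := by rw [pow_zero, inv_one]
theorem inv1 : (f ^ 1)⁻¹ = f * (f * (f * f)) := by
  rw [pow_one, inv_eq_iff_mul_eq_one]; exact f5'
theorem inv2 : (f ^ 2)⁻¹ = f * (f * f) := by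
  rw [inv_eq_iff_mul_eq_one, pow_two, mul_assoc]; exact f5'
theorem inv3 : (f ^ 3)⁻¹ = f * f := by
  rw [inv_eq_iff_mul_eq_one, pow_succ, pow_two, mul_assoc, mul_assoc]; exact f5'
theorem inv4 : (f ^ 4)⁻¹ = f := by
  rw [inv_eq_iff_mul_eq_one, ← pow_succ]; exact f_pow

theorem PA0 : getG (EY ws1) 10 = (f ^ 0)⁻¹ * uA * f ^ 0 * R := by
  have h := EY_at' ws1 0 [18, 17] 10 (by decide) (by decide) (by decide)
  simp only [evG_cons, evG_nil, mul_one] at h
  rw [inv0, ← e_f]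
  simpa only [pow_succ, pow_zero, one_mul, mul_assoc] using h

theorem PA1 : getG (EY ws1) 9 = (f ^ 1)⁻¹ * uA * f ^ 1 * R := by
  have h := EY_at' ws1 1 [33, 33, 33, 33, 18, 33, 17] 9 (by decide) (by decide) (by decide)
  simp only [evG_cons, evG_nil, mul_one] at h
  rw [inv1, ← e_f]
  simpa only [pow_succ, pow_zero, one_mul, mul_assoc] using h

theorem PA2 : getG (EY ws1) 8 = (f ^ 2)⁻¹ * uA * f ^ 2 * R := by
  have h := EY_at' ws1 2 [33, 33, 33, 18, 33, 33, 17] 8 (by decide) (by decide) (by decide)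
  simp only [evG_cons, evG_nil, mul_one] at h
  rw [inv2, ← e_f]
  simpa only [pow_succ, pow_zero, one_mul, mul_assoc] using h

theorem PA3 : getG (EY ws1) 7 = (f ^ 3)⁻¹ * uA * f ^ 3 * R := by
  have h := EY_at' ws1 3 [33, 33, 18, 33, 33, 33, 17] 7 (by decide) (by decide) (by decide)
  simp only [evG_cons, evG_nil, mul_one] at h
  rw [inv3, ← e_f]
  simpa only [pow_succ, pow_zero, one_mul, mul_assoc] using h

theorem PA4 : getG (EY ws1) 6 = (f ^ 4)⁻¹ * uA * f ^ 4 * R := by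
  have h := EY_at' ws1 4 [33, 18, 33, 33, 33, 33, 17] 6 (by decide) (by decide) (by decide)
  simp only [evG_cons, evG_nil, mul_one] at h
  rw [inv4, ← e_f]
  simpa only [pow_succ, pow_zero, one_mul, mul_assoc] using h

theorem PB0 : getG (EY ws1) 5 = (f ^ 0)⁻¹ * uB * f ^ 0 * R := by
  have h := EY_at' ws1 5 [21, 17] 5 (by decide) (by decide) (by decide)
  simp only [evG_cons, evG_nil, mul_one] at h
  rw [inv0, ← e_f]
  simpa only [pow_succ, pow_zero, one_mul, mul_assoc] using h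

theorem PB1 : getG (EY ws1) 4 = (f ^ 1)⁻¹ * uB * f ^ 1 * R := by
  have h := EY_at' ws1 6 [33, 33, 33, 33, 21, 33, 17] 4 (by decide) (by decide) (by decide)
  simp only [evG_cons, evG_nil, mul_one] at h
  rw [inv1, ← e_f]
  simpa only [pow_succ, pow_zero, one_mul, mul_assoc] using h

theorem PB2 : getG (EY ws1) 3 = (f ^ 2)⁻¹ * uB * f ^ 2 * R := by
  have h := EY_at' ws1 7 [33, 33, 33, 21, 33, 33, 17] 3 (by decide) (by decide) (by decide)
  simp only [evG_cons, evG_nil, mul_one] at h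
  rw [inv2, ← e_f]
  simpa only [pow_succ, pow_zero, one_mul, mul_assoc] using h

theorem PB3 : getG (EY ws1) 2 = (f ^ 3)⁻¹ * uB * f ^ 3 * R := by
  have h := EY_at' ws1 8 [33, 33, 21, 33, 33, 33, 17] 2 (by decide) (by decide) (by decide)
  simp only [evG_cons, evG_nil, mul_one] at h
  rw [inv3, ← e_f]
  simpa only [pow_succ, pow_zero, one_mul, mul_assoc] using h

theorem PB4 : getG (EY ws1) 1 = (f ^ 4)⁻¹ * uB * f ^ 4 * R := by
  have h := EY_at' ws1 9 [33, 21, 33, 33, 33, 33, 17] 1 (by decide) (by decide) (by decide)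
  simp only [evG_cons, evG_nil, mul_one] at h
  rw [inv4, ← e_f]
  simpa only [pow_succ, pow_zero, one_mul, mul_assoc] using h

theorem P1 : getG (EY ws1) 0 = 1 := EY_at' ws1 10 [] 0 (by decide) (by decide) (by decide)

/-- the product in the group generated -/
theorem cube {U y : 𝒢} {a : ℕ} (h : (U * (f ^ a * (R * y) * (f ^ a)⁻¹)) ^ 3 = 1) :
    ((f ^ a)⁻¹ * U * f ^ a * R * y) ^ 3 = 1 := by
  have e1 : (f ^ a)⁻¹ * U * f ^ a * R * y =
      (f ^ a)⁻¹ * (U * (f ^ a * (R * y) * (f ^ a)⁻¹)) * ((f ^ a)⁻¹)⁻¹ := by group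
  rw [e1, conj_pow, h]
  group

theorem T0_eq : e 7 = f ^ 2 * (R * 1) * (f ^ 2)⁻¹ := by
  have h := eqY (p := ([7], [33, 33, 17, 33, 33, 33])) (by decide +kernel)
  simp only [evG_cons, evG_nil, mul_one] at h
  rw [inv2, ← e_f]
  simpa only [pow_succ, pow_zero, one_mul, mul_one, mul_assoc] using h

theorem T1_eq : e 6 = f ^ 3 * (R * e 12) * (f ^ 3)⁻¹ := by
  have h := eqY (p := ([6], [33, 33, 33, 17, 12, 33, 33])) (by decide +kernel)
  simp only [evG_cons, evG_nil, mul_one] at h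
  rw [inv3, ← e_f]
  simpa only [pow_succ, pow_zero, one_mul, mul_one, mul_assoc] using h

theorem T2_eq : e 5 = f ^ 3 * (R * e 11) * (f ^ 3)⁻¹ := by
  have h := eqY (p := ([5], [33, 33, 33, 17, 11, 33, 33])) (by decide +kernel)
  simp only [evG_cons, evG_nil, mul_one] at h
  rw [inv3, ← e_f]
  simpa only [pow_succ, pow_zero, one_mul, mul_one, mul_assoc] using h

theorem T3_eq : e 4 = f ^ 3 * (R * e 10) * (f ^ 3)⁻¹ := by
  have h := eqY (p := ([4], [33, 33, 33, 17, 10, 33, 33])) (by decide +kernel)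
  simp only [evG_cons, evG_nil, mul_one] at h
  rw [inv3, ← e_f]
  simpa only [pow_succ, pow_zero, one_mul, mul_one, mul_assoc] using h

theorem T4_eq : e 3 = f ^ 3 * (R * e 9) * (f ^ 3)⁻¹ := by
  have h := eqY (p := ([3], [33, 33, 33, 17, 9, 33, 33])) (by decide +kernel)
  simp only [evG_cons, evG_nil, mul_one] at h
  rw [inv3, ← e_f]
  simpa only [pow_succ, pow_zero, one_mul, mul_one, mul_assoc] using h

theorem T5_eq : e 2 = f ^ 1 * (R * e 8) * (f ^ 1)⁻¹ := by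
  have h := eqY (p := ([2], [33, 17, 8, 33, 33, 33, 33])) (by decide +kernel)
  simp only [evG_cons, evG_nil, mul_one] at h
  rw [inv1, pow_one, ← e_f]
  simpa only [pow_succ, pow_zero, one_mul, mul_one, mul_assoc] using h

theorem sh (y : 𝒢) (i : ℕ) : getG (y :: EY ws1) (12 + i) = e i := by
  have h : getG (y :: EY ws1) (12 + i) = getG (EY ws1) (ws1.length + i) := by
    rw [show 12 + i = (ws1.length + i) + 1 by rw [show ws1.length = 11 from rfl]; omega]
    rfl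
  rw [h, EY_shift]

theorem c1 (y : 𝒢) (i : ℕ) : getG (y :: EY ws1) (i + 1) = getG (EY ws1) i := rfl
theorem c0 (y : 𝒢) (L : List 𝒢) : getG (y :: L) 0 = y := rfl

/-- **the list for `uA` and `uB`** -/
theorem t_list {t' : 𝒢} (ht : t' * t' = 1) (htf : t' * f * t'⁻¹ = f⁻¹) :
    ((uA * t') ^ 3 = 1 → t' = e 7) ∧
    ((uB * t') ^ 3 = 1 → t' = e 6 ∨ t' = e 5 ∨ t' = e 4 ∨ t' = e 3 ∨ t' = e 2) := by
  obtain ⟨a, ha, y, hy, hyy, rfl⟩ := inv_f ht htf
  have h := check1 y hy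
  simp only [fm1, Mean, evG_cons, evG_nil, mul_one, ne_eq] at h
  rw [c1 y 10, c1 y 9, c1 y 8, c1 y 7, c1 y 6, c1 y 5, c1 y 4, c1 y 3, c1 y 2, c1 y 1, c1 y 0] at h
  simp only [c0] at h
  rw [show getG (y :: EY ws1) 20 = e 8 from sh y 8, show getG (y :: EY ws1) 24 = e 12 from sh y 12,
    show getG (y :: EY ws1) 23 = e 11 from sh y 11, show getG (y :: EY ws1) 22 = e 10 from sh y 10,
    show getG (y :: EY ws1) 21 = e 9 from sh y 9] at h
  simp only [← pow_three] at h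
  rw [PA0, PA1, PA2, PA3, PA4, PB0, PB1, PB2, PB3, PB4, P1] at h
  rcases h with h | ⟨hA0, hA1, hA2, hA3, hA4, hB0, hB1, hB2, hB3, hB4⟩
  · exact absurd hyy h
  · constructor
    · intro h1
      have h2 := cube h1
      interval_cases a
      · exact absurd h2 hA0
      · exact absurd h2 hA1
      · rcases hA2 with h3 | h3
        · rw [h3, T0_eq]
        · exact absurd h2 h3
      · exact absurd h2 hA3
      · exact absurd h2 hA4
    · intro h1
      have h2 := cube h1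
      interval_cases a
      · exact absurd h2 hB0
      · rcases hB1 with h3 | h3
        · right; right; right; right
          rw [h3, T5_eq]
        · exact absurd h2 h3
      · exact absurd h2 hB2
      · rcases hB3 with h3 | h3 | h3 | h3 | h3
        · left; rw [h3, T1_eq]
        · right; left; rw [h3, T2_eq]
        · right; right; left; rw [h3, T3_eq]
        · right; right; right; left; rw [h3, T4_eq]
        · exact absurd h2 h3
      · exact absurd h2 hB4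

/-! ### The normal form -/

theorem z_sq : e 16 * e 16 = 1 := by
  have h := eqY (p := ([16, 16], [])) (by decide +kernel)
  simpa only [evG_cons, evG_nil, mul_one] using h

theorem z_inv : (e 16)⁻¹ = e 16 := inv_eq_of_mul_eq_one_left z_sq

theorem z_uB : e 16 * uB * (e 16)⁻¹ = uB := by
  have h := eqY (p := ([16, 21], [21, 16])) (by decide +kernel)
  simp only [evG_cons, evG_nil, mul_one] at h
  rw [h, mul_inv_cancel_right]

theorem z_f : e 16 * f * (e 16)⁻¹ = f := by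
  have h := eqY (p := ([16, 33], [33, 16])) (by decide +kernel)
  simp only [evG_cons, evG_nil, mul_one] at h
  rw [← e_f, h, mul_inv_cancel_right]

theorem z_T2 : e 16 * e 5 * (e 16)⁻¹ = e 6 := by
  have h := eqY (p := ([16, 5], [6, 16])) (by decide +kernel)
  simp only [evG_cons, evG_nil, mul_one] at h
  rw [h, mul_inv_cancel_right]

theorem z_T4 : e 16 * e 3 * (e 16)⁻¹ = e 4 := by
  have h := eqY (p := ([16, 3], [4, 16])) (by decide +kernel)
  simp only [evG_cons, evG_nil, mul_one] at h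
  rw [h, mul_inv_cancel_right]

/-- **the triples `(u, f, t)`** -/
theorem triple {u' f' t' : 𝒢} (hu : u' ^ 11 = 1) (hu1 : u' ≠ 1) (hf : f' ^ 5 = 1) (hfu : f' * u' * f'⁻¹ = u' ^ 3)
    (ht : t' * t' = 1) (htf : t' * f' * t'⁻¹ = f'⁻¹) (hut : (u' * t') ^ 3 = 1) :
    ∃ g : 𝒢, g * f' * g⁻¹ = f ∧ ((g * u' * g⁻¹ = uA ∧ g * t' * g⁻¹ = e 7) ∨
      (g * u' * g⁻¹ = uB ∧ (g * t' * g⁻¹ = e 6 ∨ g * t' * g⁻¹ = e 4 ∨ g * t' * g⁻¹ = e 2))) := by
  obtain ⟨g, hg, h⟩ := pair hf hu hu1 hfu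
  have h1 : g * t' * g⁻¹ * (g * t' * g⁻¹) = 1 := by
    have e1 : g * t' * g⁻¹ * (g * t' * g⁻¹) = g * (t' * t') * g⁻¹ := by group
    rw [e1, ht]; group
  have h2 : g * t' * g⁻¹ * f * (g * t' * g⁻¹)⁻¹ = f⁻¹ := by
    rw [← hg]
    have e1 : g * t' * g⁻¹ * (g * f' * g⁻¹) * (g * t' * g⁻¹)⁻¹ = g * (t' * f' * t'⁻¹) * g⁻¹ := by group
    rw [e1, htf]; group
  have h3 : (g * u' * g⁻¹ * (g * t' * g⁻¹)) ^ 3 = 1 := by
    have e1 : g * u' * g⁻¹ * (g * t' * g⁻¹) = g * (u' * t') * g⁻¹ := by group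
    rw [e1, conj_pow, hut]; group
  obtain ⟨hA, hB⟩ := t_list h1 h2
  rcases h with h | h
  · rw [h] at h3
    exact ⟨g, hg, Or.inl ⟨h, hA h3⟩⟩
  · rw [h] at h3
    have key : ∀ a b : 𝒢, g * t' * g⁻¹ = a → e 16 * a * (e 16)⁻¹ = b →
        e 16 * g * f' * (e 16 * g)⁻¹ = f ∧ e 16 * g * u' * (e 16 * g)⁻¹ = uB ∧ e 16 * g * t' * (e 16 * g)⁻¹ = b := by
      intro a b ha hb
      refine ⟨?_, ?_, ?_⟩
      · have e1 : e 16 * g * f' * (e 16 * g)⁻¹ = e 16 * (g * f' * g⁻¹) * (e 16)⁻¹ := by group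
        rw [e1, hg, z_f]
      · have e1 : e 16 * g * u' * (e 16 * g)⁻¹ = e 16 * (g * u' * g⁻¹) * (e 16)⁻¹ := by group
        rw [e1, h, z_uB]
      · have e1 : e 16 * g * t' * (e 16 * g)⁻¹ = e 16 * (g * t' * g⁻¹) * (e 16)⁻¹ := by group
        rw [e1, ha, hb]
    rcases hB h3 with h4 | h4 | h4 | h4 | h4
    · exact ⟨g, hg, Or.inr ⟨h, Or.inl h4⟩⟩
    · obtain ⟨k1, k2, k3⟩ := key _ _ h4 z_T2
      exact ⟨e 16 * g, k1, Or.inr ⟨k2, Or.inl k3⟩⟩
    · exact ⟨g, hg, Or.inr ⟨h, Or.inr (Or.inl h4)⟩⟩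
    · obtain ⟨k1, k2, k3⟩ := key _ _ h4 z_T4
      exact ⟨e 16 * g, k1, Or.inr ⟨k2, Or.inr (Or.inl k3)⟩⟩
    · exact ⟨g, hg, Or.inr ⟨h, Or.inr (Or.inr h4)⟩⟩

end Cfsg.Agent.H831.JM.TList
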